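import Cfsg.Agent.H232.Ux.Irr

/-!
# UX (S5716), UT2b: the adjoint involution of the field of an irreducible isometry (helper232)

`Ty Φ ε r` : the three types of forms, uniformly; `ty_of` : they are of this form.
`exists_sigma` : the involution `σ x = x ^ Q₀`, `Q₀ ^ 2 = |L|`, `σ u = u⁻¹`, of the field `L` of the irreducible isometry `s`.
-/

set_option autoImplicit false
set_option linter.unusedSectionVars false

namespace Cfsg.Agent.H232.Ux

open Module Polynomial Cfsg.Agent.H847.Bs Cfsg.Agent.H881.Bs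

/-- powers of the Frobenius automorphism which are involutions -/
theorem frob_unique {L : Type*} [Field L] [Finite L] (p : ℕ) [Fact p.Prime] [CharP L p] (n j : ℕ)
    (hn : Nat.card L = p ^ n) (h2 : ∀ x : L, x ^ p ^ (2 * j) = x) (h1 : ∃ x : L, x ^ p ^ j ≠ x) :
    ∃ m, n = 2 * m ∧ ∀ x : L, x ^ p ^ j = x ^ p ^ m := by
  have := Fintype.ofFinite L
  have hp := (Fact.out : p.Prime)
  have hpn : ∀ (l : ℕ) (x : L), x ^ p ^ (n * l) = x := by
    intro l x
    rw [pow_mul, ← hn, Nat.card_eq_fintype_card, FiniteField.pow_card_pow]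
  have hdvd : n ∣ 2 * j := by
    obtain ⟨g, hg⟩ := IsCyclic.exists_generator (α := Lˣ)
    have ho : orderOf g = p ^ n - 1 := by
      rw [orderOf_eq_card_of_forall_mem_zpowers hg, Nat.card_units, hn]
    have h3 : g ^ (p ^ (2 * j) - 1) = 1 := by
      have h4 : g ^ (p ^ (2 * j)) = g := Units.ext (by rw [Units.val_pow_eq_pow_val, h2])
      have h5 : g ^ (p ^ (2 * j) - 1) * g = g := by
        rw [← pow_succ, Nat.sub_add_cancel (Nat.one_le_iff_ne_zero.2 (pow_ne_zero _ hp.ne_zero)), h4]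
      exact mul_eq_right.1 h5
    have h4 := orderOf_dvd_of_pow_eq_one h3
    rw [ho] at h4
    have h5 := Nat.gcd_eq_left h4
    rw [Nat.pow_sub_one_gcd_pow_sub_one] at h5
    have h6 : p ^ Nat.gcd n (2 * j) = p ^ n := by
      have h7 : 1 ≤ p ^ Nat.gcd n (2 * j) := Nat.one_le_iff_ne_zero.2 (pow_ne_zero _ hp.ne_zero)
      have h8 : 1 ≤ p ^ n := Nat.one_le_iff_ne_zero.2 (pow_ne_zero _ hp.ne_zero)
      omega
    have h7 := Nat.pow_right_injective hp.two_le h6
    exact Nat.gcd_eq_left_iff_dvd.1 h7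
  obtain ⟨c, hc⟩ := hdvd
  rcases Nat.even_or_odd' c with ⟨l, rfl | rfl⟩
  · exfalso
    obtain ⟨x, hx⟩ := h1
    apply hx
    have h3 : j = n * l := by
      have : 2 * j = 2 * (n * l) := by rw [hc]; ring
      omega
    rw [h3, hpn]
  · have hev : Even n := by
      have h3 : Even (n * (2 * l + 1)) := by rw [← hc]; exact even_two_mul j
      rcases Nat.even_mul.1 h3 with h4 | h4
      · exact h4
      · exact absurd h4 (by simp)
    obtain ⟨m, hm⟩ := hev
    refine ⟨m, by omega, fun x => ?_⟩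
    have h3 : j = n * l + m := by
      have : 2 * j = 2 * (n * l + m) := by rw [hc, hm]; ring
      omega
    rw [h3, pow_add, pow_mul, hpn]

section

variable {F V : Type*} [Field F] [AddCommGroup V] [Module F V]

/-- the three types of forms, uniformly -/
structure Ty (Φ : Frm F V) (ε : F) (r : ℕ) : Prop where
  nd : Φ.Nd
  s : ∀ a, Φ.s a = a ^ r
  symm : ∀ x y, Φ.B y x = ε * Φ.B x y ^ r
  eps : ε = 1 ∨ ε = -1
  ty : r = 1 ∨ Nat.card F = r ^ 2
  q : (∀ x, Φ.q x = 0) ∨ ((∀ x y, Φ.q (x + y) = Φ.q x + Φ.q y + Φ.B x y) ∧ ∀ (a : F) (x), Φ.q (a • x) = a ^ 2 * Φ.q x)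

theorem ty_of {Φ : Frm F V} (h : IsSp Φ ∨ (∃ r, IsHerm r Φ) ∨ ∃ Q : QuadraticForm F V, Φ.Nd ∧ Φ = frmQ Q) :
    ∃ ε r, Ty Φ ε r := by
  rcases h with h | ⟨r, h⟩ | ⟨Q, hn, rfl⟩
  · refine ⟨-1, 1, h.nd, fun a => by rw [h.s, pow_one], fun x y => ?_, Or.inr rfl, Or.inl rfl, Or.inl h.q⟩
    have h1 := h.alt (x + y)
    rw [Φ.add_left, Φ.add_right, Φ.add_right, h.alt, h.alt] at h1
    rw [pow_one]
    linear_combination h1
  · exact ⟨1, r, h.nd, h.s, fun x y => by rw [h.symm x y, one_mul], Or.inl rfl, Or.inr h.card, Or.inl h.q⟩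
  · refine ⟨1, 1, hn, fun a => (pow_one a).symm, fun x y => ?_, Or.inl rfl, Or.inl rfl, Or.inr ⟨fun x y => ?_, fun a x => ?_⟩⟩
    · rw [one_mul, pow_one]
      exact QuadraticMap.polar_comm _ _ _
    · show Q (x + y) = Q x + Q y + QuadraticMap.polar Q x y
      rw [QuadraticMap.polar]
      ring
    · show Q (a • x) = a ^ 2 * Q x
      rw [QuadraticMap.map_smul, smul_eq_mul, pow_two]

variable [Finite F] [FiniteDimensional F V] {L : Type*} [Field L] [Finite L] [Algebra F L] {Φ : Frm F V} {ε : F} {r : ℕ}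

/-- the adjoint of a polynomial in an isometry -/
theorem B_aeval (hΦ : Ty Φ ε r) {s : V ≃ₗ[F] V} (hs : s ∈ Φ.Iso) (φ : F →+* F) (hφ : ∀ a, φ a = a ^ r) (P : F[X]) (x y : V) :
    Φ.B x (aeval (s : V →ₗ[F] V) P y) = Φ.B (aeval ((s⁻¹ : V ≃ₗ[F] V) : V →ₗ[F] V) (P.map φ) x) y := by
  induction P using Polynomial.induction_on' with
  | add P P' hP hP' =>
    rw [Polynomial.map_add, map_add, map_add, LinearMap.add_apply, LinearMap.add_apply, Φ.add_left, Φ.add_right, hP, hP']
  | monomial n a =>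
    rw [Polynomial.map_monomial, aeval_monomial, aeval_monomial, Module.End.mul_apply, Module.End.mul_apply,
      Module.algebraMap_end_apply, Module.algebraMap_end_apply, Φ.smul_left, Φ.smul_right, hΦ.s, hφ]
    congr 1
    induction n generalizing x with
    | zero => simp
    | succ n ih =>
      rw [pow_succ', Module.End.mul_apply, pow_succ, Module.End.mul_apply, ← ih]
      have h1 : x = s (s⁻¹ x) := (s.apply_symm_apply x).symm
      conv_lhs => rw [h1]
      exact hs.1 _ _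

/-- **The adjoint involution.** -/
theorem exists_sigma (hΦ : Ty Φ ε r) (h2 : 2 ≤ finrank F L) {s : V ≃ₗ[F] V} (hs : s ∈ Φ.Iso) (e : V ≃ₗ[F] L)
    {u : L} (hu : ∀ v, e (s v) = u * e v) (hg : Gen F u) :
    ∃ (σ : L →+* L) (Q : ℕ), Q ^ 2 = Nat.card L ∧ (∀ x, σ x = x ^ Q) ∧
      (∀ a : F, σ (algebraMap F L a) = algebraMap F L (a ^ r)) ∧ σ u = u⁻¹ := by
  have hfdL : FiniteDimensional F L := Module.Finite.of_finite
  have := Fintype.ofFinite F
  obtain ⟨p, hpF⟩ := CharP.exists F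
  have hp : Fact p.Prime := ⟨CharP.char_is_prime F p⟩
  have hpL : CharP L p := charP_of_injective_algebraMap (algebraMap F L).injective p
  obtain ⟨m, hm⟩ : ∃ m, Nat.card F = p ^ m := by
    obtain ⟨m, -, hm⟩ := FiniteField.card F p
    exact ⟨m, by rw [Nat.card_eq_fintype_card, hm]⟩
  obtain ⟨k, hk⟩ : ∃ k, r = p ^ k := by
    rcases hΦ.ty with h | h
    · exact ⟨0, by rw [h, pow_zero]⟩
    · have h3 : r ∣ p ^ m := by rw [← hm, h]; exact dvd_pow_self r two_ne_zero
      obtain ⟨k, -, hk⟩ := (Nat.dvd_prime_pow hp.out).1 h3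
      exact ⟨k, hk⟩
  let φ : F →+* F := iterateFrobenius F p k
  let ψ : L →+* L := iterateFrobenius L p k
  have hφ : ∀ a, φ a = a ^ r := fun a => by rw [hk]; exact iterateFrobenius_def p k a
  have hψ : ∀ a, ψ a = a ^ r := fun a => by rw [hk]; exact iterateFrobenius_def p k a
  have hu0 : u ≠ 0 := by
    rintro rfl
    have h3 : e (s (e.symm 1)) = 0 := by rw [hu, zero_mul]
    rw [LinearEquiv.map_eq_zero_iff, LinearEquiv.map_eq_zero_iff, LinearEquiv.map_eq_zero_iff] at h3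
    exact one_ne_zero h3
  let t : Lˣ := Units.mk0 u hu0
  have hs' : ∀ v, e (s⁻¹ v) = (t⁻¹ : Lˣ) * e v := by
    intro v
    have h3 := hu (s⁻¹ v)
    have h4 : s (s⁻¹ v) = v := s.apply_symm_apply v
    rw [h4] at h3
    rw [h3, Units.val_inv_eq_inv_val, ← mul_assoc]
    show _ = u⁻¹ * u * _
    rw [inv_mul_cancel₀ hu0, one_mul]
  -- the polynomial of `u⁻¹`
  have hpoly : ∀ P : F[X], aeval u P = 0 → aeval u⁻¹ (P.map φ) = 0 := by
    intro P hP
    have h3 : ∀ y, aeval (s : V →ₗ[F] V) P y = 0 := by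
      intro y
      have h4 := aeval_conj e (s : V →ₗ[F] V) (mul F t : L →ₗ[F] L) (fun v => hu v) P y
      rw [Cfsg.Agent.H881.Bs.aeval_mul] at h4
      have h5 : aeval (t : L) P = 0 := hP
      rw [h5, zero_mul, LinearEquiv.map_eq_zero_iff] at h4
      exact h4
    have h4 : aeval ((s⁻¹ : V ≃ₗ[F] V) : V →ₗ[F] V) (P.map φ) (e.symm 1) = 0 := by
      apply hΦ.nd
      intro y
      rw [← B_aeval hΦ hs φ hφ, h3]
      have h5 := Φ.smul_right 0 (e.symm 1) (0 : V)
      rw [zero_smul] at h5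
      have h6 : Φ.B (e.symm 1) (0 + 0) = Φ.B (e.symm 1) 0 + Φ.B (e.symm 1) 0 := Φ.add_right _ _ _
      rw [add_zero] at h6
      exact left_eq_add.1 h6
    have h5 := aeval_conj e ((s⁻¹ : V ≃ₗ[F] V) : V →ₗ[F] V) (mul F t⁻¹ : L →ₗ[F] L) (fun v => hs' v) (P.map φ) (e.symm 1)
    rw [Cfsg.Agent.H881.Bs.aeval_mul, h4, map_zero, e.apply_symm_apply, mul_one, Units.val_inv_eq_inv_val] at h5
    exact h5.symm
  -- the root `w`
  obtain ⟨w, hw⟩ : ∃ w : L, ψ w = u⁻¹ := (Finite.injective_iff_surjective.1 ψ.injective) _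
  have hw0 : aeval w (minpoly F u) = 0 := by
    have h3 := hpoly (minpoly F u) (minpoly.aeval F u)
    rw [← hw, aeval_def, eval₂_map] at h3
    have h4 : (algebraMap F L).comp φ = ψ.comp (algebraMap F L) := by
      ext a
      rw [RingHom.comp_apply, RingHom.comp_apply, hφ, hψ, map_pow]
    rw [h4, ← Polynomial.hom_eval₂, ← aeval_def] at h3
    exact (map_eq_zero_iff ψ ψ.injective).1 h3
  have hint : ∀ x : L, IsIntegral F x := fun x => Algebra.IsIntegral.isIntegral x
  have hmin : minpoly F u = minpoly F w :=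
    minpoly.eq_of_irreducible_of_monic (minpoly.irreducible (hint u)) hw0 (minpoly.monic (hint u))
  obtain ⟨i, hi⟩ := eq_pow_of_minpoly_eq hmin
  -- the involution
  let σ : L →+* L := iterateFrobenius L p (m * i + k)
  have hσ : ∀ x, σ x = (x ^ (Nat.card F ^ i)) ^ r := by
    intro x
    have h3 : σ x = x ^ p ^ (m * i + k) := iterateFrobenius_def p _ x
    rw [h3, hm, hk, ← pow_mul, ← pow_mul, ← pow_add]
  have hσF : ∀ a : F, σ (algebraMap F L a) = algebraMap F L (a ^ r) := by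
    intro a
    rw [hσ, ← map_pow, ← map_pow, Nat.card_eq_fintype_card, FiniteField.pow_card_pow]
  have hσu : σ u = u⁻¹ := by rw [hσ, ← hi, ← hψ, hw]
  have hrr : ∀ a : F, (a ^ r) ^ r = a := by
    intro a
    rcases hΦ.ty with h | h
    · rw [h, pow_one, pow_one]
    · rw [← pow_mul, ← pow_two, ← h, Nat.card_eq_fintype_card, FiniteField.pow_card]
  have hσσ : ∀ x, σ (σ x) = x := by
    refine hg.mem (fun x => σ (σ x) = x) (fun a => ?_) ?_ (fun x y hx hy => ?_) (fun x y hx hy => ?_)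
    · rw [hσF, hσF, hrr]
    · rw [hσu, map_inv₀, hσu, inv_inv]
    · rw [map_add, map_add, hx, hy]
    · rw [map_mul, map_mul, hx, hy]
  have hne : ∃ x, σ x ≠ x := by
    by_contra hcon
    push Not at hcon
    rcases hΦ.ty with h | h
    · -- `u = ± 1`
      have h3 : u⁻¹ = u := by rw [← hσu, hcon]
      have h4 : u * u = 1 := by
        have h5 := inv_mul_cancel₀ hu0
        rwa [h3] at h5
      have h5 : ∃ a : F, algebraMap F L a = u := by
        rcases mul_self_eq_one_iff.1 h4 with h5 | h5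
        · exact ⟨1, by rw [map_one, h5]⟩
        · exact ⟨-1, by rw [map_neg, map_one, h5]⟩
      obtain ⟨a, ha⟩ := h5
      have h6 : ∀ x : L, ∃ b : F, algebraMap F L b = x := by
        refine hg.mem _ (fun b => ⟨b, rfl⟩) ⟨a, ha⟩ ?_ ?_
        · rintro _ _ ⟨b, rfl⟩ ⟨c, rfl⟩
          exact ⟨b + c, map_add _ _ _⟩
        · rintro _ _ ⟨b, rfl⟩ ⟨c, rfl⟩
          exact ⟨b * c, map_mul _ _ _⟩
      have h7 : finrank F L ≤ 1 := by
        refine finrank_le_one (1 : L) fun x => ?_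
        obtain ⟨b, hb⟩ := h6 x
        exact ⟨b, by rw [Algebra.smul_def, mul_one, hb]⟩
      omega
    · have h3 : ∀ a : F, a ^ r = a := by
        intro a
        apply (algebraMap F L).injective
        rw [← hσF, hcon]
      exact sig_ne h (RingHom.ext fun a => by rw [sig_apply, h3]; rfl)
  obtain ⟨n, hn⟩ : ∃ n, Nat.card L = p ^ n := by
    have := Fintype.ofFinite L
    obtain ⟨n, -, hn⟩ := FiniteField.card L p
    exact ⟨n, by rw [Nat.card_eq_fintype_card, hn]⟩
  have hσp : ∀ x, σ x = x ^ p ^ (m * i + k) := fun x => iterateFrobenius_def p _ x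
  obtain ⟨l, hl, hl'⟩ := frob_unique (L := L) p n (m * i + k) hn (fun x => by
    rw [two_mul, pow_add, pow_mul, ← hσp, ← hσp, hσσ]) (by
    obtain ⟨x, hx⟩ := hne
    exact ⟨x, by rwa [← hσp]⟩)
  refine ⟨σ, p ^ l, ?_, fun x => ?_, hσF, hσu⟩
  · rw [hn, hl, ← pow_mul, mul_comm]
  · rw [hσp, hl']

end

end Cfsg.Agent.H232.Ux
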