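import Cfsg.Agent.H881.Bs.FieldExt
import Cfsg.Agent.H881.Bs.HermMinus

/-!
# UX (S5716), UT2b: irreducible automorphisms of a space over a finite field (helper232)

`exists_frame` : an irreducible automorphism `s` of `V` is multiplication by an element `u` of the field `L`, `[L : F] = dim V`;
`card_frames` : there are at least `dim V * |Lˣ|` such identifications `V ≃ L`.
-/

set_option autoImplicit false
set_option linter.unusedSectionVars false

namespace Cfsg.Agent.H232.Ux

open Module Polynomial Cfsg.Agent.H847.Bs Cfsg.Agent.H881.Bs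

section

variable {F V : Type*} [Field F] [Finite F] [AddCommGroup V] [Module F V] [FiniteDimensional F V]

/-- the kernel of a polynomial in an irreducible automorphism -/
theorem ker_cases {s : V ≃ₗ[F] V} (h : Irr s (⊤ : Submodule F V)) (p : F[X]) :
    aeval (s : V →ₗ[F] V) p = 0 ∨ ∀ v, aeval (s : V →ₗ[F] V) p v = 0 → v = 0 := by
  have hcomm : (s : V →ₗ[F] V) * aeval (s : V →ₗ[F] V) p = aeval (s : V →ₗ[F] V) p * (s : V →ₗ[F] V) := by
    have h1 : aeval (s : V →ₗ[F] V) ((X : F[X]) * p) = aeval (s : V →ₗ[F] V) (p * X) := by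
      rw [mul_comm]
    rwa [map_mul, map_mul, aeval_X] at h1
  rcases h.min (LinearMap.ker (aeval (s : V →ₗ[F] V) p)) le_top (by
    intro v hv
    rw [LinearMap.mem_ker] at hv ⊢
    have h1 := LinearMap.congr_fun hcomm v
    rw [Module.End.mul_apply, Module.End.mul_apply, hv, map_zero] at h1
    exact h1.symm) with h1 | h1
  · right
    intro v hv
    have h2 : v ∈ LinearMap.ker (aeval (s : V →ₗ[F] V) p) := hv
    rw [h1] at h2
    exact (Submodule.mem_bot F).1 h2
  · left
    exact LinearMap.ker_eq_top.1 h1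

theorem minpoly_irreducible {s : V ≃ₗ[F] V} (h : Irr s (⊤ : Submodule F V)) :
    Irreducible (minpoly F (s : V →ₗ[F] V)) := by
  have hnt : Nontrivial V := by
    by_contra hn
    rw [not_nontrivial_iff_subsingleton] at hn
    exact h.ne_bot (Subsingleton.elim _ _)
  have hint : IsIntegral F (s : V →ₗ[F] V) := Algebra.IsIntegral.isIntegral _
  have hmon := minpoly.monic hint
  have hne1 : minpoly F (s : V →ₗ[F] V) ≠ 1 := minpoly.ne_one F _
  rw [hmon.irreducible_iff_natDegree' ]
  refine ⟨hne1, fun a b ha hb hab hm => ?_⟩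
  rw [Finset.mem_Ioc] at hm
  have hdeg : a.natDegree + b.natDegree = (minpoly F (s : V →ₗ[F] V)).natDegree := by
    rw [← hab, ha.natDegree_mul hb]
  have key : ∀ c : F[X], c.Monic → c.natDegree < (minpoly F (s : V →ₗ[F] V)).natDegree →
      aeval (s : V →ₗ[F] V) c ≠ 0 := by
    intro c hc hlt h0
    have h1 := minpoly.min F (s : V →ₗ[F] V) hc h0
    have h2 := Polynomial.natDegree_le_natDegree h1
    omega
  have h1 := (ker_cases h a).resolve_left (key a ha (by omega))
  have h2 := key b hb (by omega)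
  apply h2
  apply LinearMap.ext
  intro v
  rw [LinearMap.zero_apply]
  apply h1
  rw [← Module.End.mul_apply, ← map_mul, hab, minpoly.aeval, LinearMap.zero_apply]

variable {L : Type*} [Field L] [Finite L] [Algebra F L]

/-- **An irreducible automorphism is multiplication by an element of the field `L`.** -/
theorem exists_frame (hL : finrank F L = finrank F V) {s : V ≃ₗ[F] V} (h : Irr s (⊤ : Submodule F V)) :
    ∃ (e : V ≃ₗ[F] L) (u : L), ∀ v, e (s v) = u * e v := by
  obtain ⟨v₀, -, hv₀⟩ := Submodule.exists_mem_ne_zero_of_ne_bot h.ne_bot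
  set f := minpoly F (s : V →ₗ[F] V) with hf
  have hirr : Irreducible f := minpoly_irreducible h
  have hfact : Fact (Irreducible f) := ⟨hirr⟩
  let pb := AdjoinRoot.powerBasis hirr.ne_zero
  have hfin : Module.Finite F (AdjoinRoot f) := pb.finite
  have hfin' : Finite (AdjoinRoot f) := Module.finite_of_finite F
  have hint : IsIntegral F (s : V →ₗ[F] V) := Algebra.IsIntegral.isIntegral _
  have hg : pb.gen = AdjoinRoot.root f := AdjoinRoot.powerBasis_gen hirr.ne_zero
  let φ : AdjoinRoot f →ₐ[F] Module.End F V := pb.lift (s : V →ₗ[F] V) (by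
    rw [hg, AdjoinRoot.minpoly_root hirr.ne_zero, (minpoly.monic hint).leadingCoeff, inv_one, map_one, mul_one,
      minpoly.aeval])
  have hφ : φ (AdjoinRoot.root f) = (s : V →ₗ[F] V) := by
    rw [← hg]
    exact pb.lift_gen _ _
  let T : AdjoinRoot f →ₗ[F] V :=
    { toFun := fun k => φ k v₀
      map_add' := fun x y => by rw [map_add, LinearMap.add_apply]
      map_smul' := fun c x => by rw [map_smul, LinearMap.smul_apply, RingHom.id_apply] }
  have hinj : Function.Injective T := by
    rw [← LinearMap.ker_eq_bot, LinearMap.ker_eq_bot']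
    intro k hk
    by_contra hk0
    apply hv₀
    have h1 : φ k v₀ = 0 := hk
    have h2 : (φ k⁻¹ * φ k) v₀ = 0 := by rw [Module.End.mul_apply, h1, map_zero]
    rw [← map_mul, inv_mul_cancel₀ hk0, map_one, Module.End.one_apply] at h2
    exact h2
  have hsurj : Function.Surjective T := by
    rw [← LinearMap.range_eq_top]
    refine (h.min _ le_top ?_).resolve_left ?_
    · rintro _ ⟨k, rfl⟩
      refine ⟨AdjoinRoot.root f * k, ?_⟩
      show φ (_ * k) v₀ = s (φ k v₀)
      rw [map_mul, hφ, Module.End.mul_apply]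
      rfl
    · intro h0
      have h1 : T 1 ∈ LinearMap.range T := ⟨1, rfl⟩
      rw [h0, Submodule.mem_bot] at h1
      have h2 : φ 1 v₀ = 0 := h1
      rw [map_one, Module.End.one_apply] at h2
      exact hv₀ h2
  let T' : AdjoinRoot f ≃ₗ[F] V := LinearEquiv.ofBijective T ⟨hinj, hsurj⟩
  have hT' : ∀ k, T' (AdjoinRoot.root f * k) = s (T' k) := by
    intro k
    show φ (_ * k) v₀ = s (φ k v₀)
    rw [map_mul, hφ, Module.End.mul_apply]
    rfl
  obtain ⟨ψ⟩ := FiniteField.nonempty_algHom_of_finrank_dvd (F := F) (K := AdjoinRoot f) (L := L)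
    (by rw [T'.finrank_eq, hL])
  have hfdL : FiniteDimensional F L := Module.Finite.of_finite
  let ψ' : AdjoinRoot f ≃ₗ[F] L := LinearEquiv.ofInjectiveOfFinrankEq ψ.toLinearMap ψ.toRingHom.injective
    (by rw [T'.finrank_eq, hL])
  have hψ : ∀ k, ψ' k = ψ k := fun k => rfl
  refine ⟨T'.symm ≪≫ₗ ψ', ψ (AdjoinRoot.root f), fun v => ?_⟩
  obtain ⟨k, rfl⟩ := T'.surjective v
  rw [LinearEquiv.trans_apply, LinearEquiv.trans_apply, ← hT', T'.symm_apply_apply, T'.symm_apply_apply, hψ, hψ, map_mul]

/-- the element generates `L` -/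
theorem gen_of_frame {s : V ≃ₗ[F] V} (h : Irr s (⊤ : Submodule F V)) (e : V ≃ₗ[F] L) (u : L)
    (hu : ∀ v, e (s v) = u * e v) : Gen F u := by
  have h1 := (h.min ((Subalgebra.toSubmodule (Algebra.adjoin F {u})).comap (e : V →ₗ[F] L)) le_top (by
    intro v hv
    rw [Submodule.mem_comap] at hv ⊢
    show e (s v) ∈ _
    rw [hu]
    exact (Algebra.adjoin F {u}).mul_mem (Algebra.self_mem_adjoin_singleton F u) hv)).resolve_left (by
      intro h0
      have h2 : e.symm 1 ∈ (Subalgebra.toSubmodule (Algebra.adjoin F {u})).comap (e : V →ₗ[F] L) := by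
        rw [Submodule.mem_comap]
        show e (e.symm 1) ∈ _
        rw [e.apply_symm_apply]
        exact (Algebra.adjoin F {u}).one_mem
      rw [h0, Submodule.mem_bot, LinearEquiv.map_eq_zero_iff] at h2
      exact one_ne_zero h2)
  show Algebra.adjoin F {u} = ⊤
  rw [eq_top_iff]
  intro x _
  have h2 : e.symm x ∈ (Subalgebra.toSubmodule (Algebra.adjoin F {u})).comap (e : V →ₗ[F] L) := by
    rw [h1]; exact Submodule.mem_top
  rw [Submodule.mem_comap] at h2
  have h3 : e (e.symm x) ∈ Algebra.adjoin F {u} := h2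
  rwa [e.apply_symm_apply] at h3

/-- **The number of identifications.** -/
theorem card_frames (hL : finrank F L = finrank F V) {s : V ≃ₗ[F] V} (h : Irr s (⊤ : Submodule F V)) :
    finrank F V * Nat.card Lˣ ≤ Nat.card {e : V ≃ₗ[F] L // ∃ u : L, ∀ v, e (s v) = u * e v} := by
  have hfdL : FiniteDimensional F L := Module.Finite.of_finite
  have hVfin : Finite V := Module.finite_of_finite F
  have hfin : Finite (V ≃ₗ[F] L) := Finite.of_injective (fun g : V ≃ₗ[F] L => (g : V → L)) DFunLike.coe_injective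
  obtain ⟨e, u, hu⟩ := exists_frame hL h
  have h1 : Nat.card (L ≃ₐ[F] L) = finrank F V := by
    rw [IsGalois.card_aut_eq_finrank, hL]
  rw [← h1, ← Nat.card_prod]
  refine Nat.card_le_card_of_injective (fun z : (L ≃ₐ[F] L) × Lˣ =>
    (⟨e ≪≫ₗ z.1.toLinearEquiv ≪≫ₗ mul F z.2, z.1 u, fun v => ?_⟩ :
      {e : V ≃ₗ[F] L // ∃ u : L, ∀ v, e (s v) = u * e v})) ?_
  · show (z.2 : L) * z.1 (e (s v)) = z.1 u * ((z.2 : L) * z.1 (e v))
    rw [hu, map_mul]
    ring
  · rintro ⟨τ, c⟩ ⟨τ', c'⟩ hz
    have h2 : ∀ v, (c : L) * τ (e v) = (c' : L) * τ' (e v) := fun v =>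
      LinearEquiv.congr_fun (congrArg Subtype.val hz) v
    have h3 : ∀ x, (c : L) * τ x = (c' : L) * τ' x := fun x => by
      have := h2 (e.symm x)
      rwa [e.apply_symm_apply] at this
    have h4 : (c : L) = c' := by
      have := h3 1
      rwa [map_one, map_one, mul_one, mul_one] at this
    have h5 : τ = τ' := by
      ext x
      have := h3 x
      rw [← h4] at this
      exact mul_left_cancel₀ c.ne_zero this
    rw [h5, Units.ext h4]

end

end Cfsg.Agent.H232.Ux
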