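import Cfsg.Agent.H232.Ux.UpBm
import Cfsg.Agent.H50.Ux.Stmts

/-!
# UX (S5716), UT2, Yb1: the embedded forms preserved by an irreducible automorphism (helper232)

`yb1 : H50.Ux.Yb1`.
-/

set_option autoImplicit false
set_option linter.unusedSectionVars false

namespace Cfsg.Agent.H232.Ux

open Module Cfsg.Agent.H847.Bs Cfsg.Agent.H881.Bs
open Cfsg.Agent.H50.Ux (pb IsoP Emb Fo Yb1)

section

variable {F V X : Type*} [Field F] [Finite F] [AddCommGroup V] [Module F V] [AddCommGroup X] [Module F X]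
  [FiniteDimensional F X] {Φ : Frm F V} {ε : F} {r : ℕ}

/-- pull back of a form -/
def pull (Φ : Frm F V) (ψ : X →ₗ[F] V) : Frm F X where
  B x y := Φ.B (ψ x) (ψ y)
  q x := Φ.q (ψ x)
  s := Φ.s
  add_left x y z := by rw [map_add, Φ.add_left]
  add_right x y z := by rw [map_add, Φ.add_right]
  smul_left a x y := by rw [map_smul, Φ.smul_left]
  smul_right a x y := by rw [map_smul, Φ.smul_right]
  refl x y h := Φ.refl _ _ h
  q_add x y h := by rw [map_add, Φ.q_add _ _ h]

theorem ty_pull (hΦ : Ty Φ ε r) (ψ : X →ₗ[F] V) (h : (pull Φ ψ).Nd) : Ty (pull Φ ψ) ε r where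
  nd := h
  s := hΦ.s
  symm x y := hΦ.symm _ _
  eps := hΦ.eps
  ty := hΦ.ty
  q := by
    rcases hΦ.q with hq | ⟨hq1, hq2⟩
    · exact Or.inl fun x => hq _
    · refine Or.inr ⟨fun x y => ?_, fun a x => ?_⟩
      · show Φ.q (ψ (x + y)) = _
        rw [map_add, hq1]
        rfl
      · show Φ.q (ψ (a • x)) = _
        rw [map_smul, hq2]
        rfl

/-- an additive, semilinear invariant function vanishes -/
theorem semi_zero (h2 : 2 ≤ finrank F X) {m : X ≃ₗ[F] X} (hm : Irr m (⊤ : Submodule F X)) (D : X → F)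
    (hD1 : ∀ x y, D (x + y) = D x + D y) (hD2 : ∀ (a : F) (x), D (a • x) = a ^ 2 * D x) (hD3 : ∀ x, D (m x) = D x) (x : X) :
    D x = 0 := by
  let K : Submodule F X :=
    { carrier := {x | D x = 0}
      add_mem' := fun {x y} hx hy => by
        have hx' : D x = 0 := hx
        have hy' : D y = 0 := hy
        show D (x + y) = 0
        rw [hD1, hx', hy', add_zero]
      zero_mem' := by
        show D 0 = 0
        have h3 := hD2 0 0
        rw [zero_smul, zero_pow two_ne_zero, zero_mul] at h3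
        exact h3
      smul_mem' := fun a x hx => by
        have hx' : D x = 0 := hx
        show D (a • x) = 0
        rw [hD2, hx', mul_zero] }
  rcases hm.min K le_top (fun x hx => by
    have hx' : D x = 0 := hx
    show D (m x) = 0
    rw [hD3, hx']) with h3 | h3
  · exfalso
    have hinj : Function.Injective D := by
      intro x y hxy
      have h4 : x - y ∈ K := by
        show D (x - y) = 0
        have h5 := hD1 (x - y) y
        rw [sub_add_cancel, hxy] at h5
        exact right_eq_add.1 h5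
      rw [h3, Submodule.mem_bot, sub_eq_zero] at h4
      exact h4
    have h4 := Nat.card_le_card_of_injective D hinj
    rw [Module.natCard_eq_pow_finrank (K := F) (V := X)] at h4
    have h5 : 1 < Nat.card F := Finite.one_lt_card
    have h6 : Nat.card F ^ 2 ≤ Nat.card F ^ finrank F X := Nat.pow_le_pow_right h5.le h2
    nlinarith
  · have h4 : x ∈ K := by rw [h3]; exact Submodule.mem_top
    exact h4

/-- `q` is determined by `B` -/
theorem q_eq_of_B (hΦ : Ty Φ ε r) (h2 : 2 ≤ finrank F X) {m : X ≃ₗ[F] X} (hm : Irr m (⊤ : Submodule F X))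
    (ψ ψ' : X →ₗ[F] V) (h : IsoP (pb Φ ψ) m) (h' : IsoP (pb Φ ψ') m)
    (hB : ∀ x y, Φ.B (ψ x) (ψ y) = Φ.B (ψ' x) (ψ' y)) (x : X) : Φ.q (ψ x) = Φ.q (ψ' x) := by
  rcases hΦ.q with hq | ⟨hq1, hq2⟩
  · rw [hq, hq]
  · have h3 := semi_zero h2 hm (fun x => Φ.q (ψ x) - Φ.q (ψ' x)) (fun x y => by
      show Φ.q (ψ (x + y)) - Φ.q (ψ' (x + y)) = (Φ.q (ψ x) - Φ.q (ψ' x)) + (Φ.q (ψ y) - Φ.q (ψ' y))
      rw [map_add, map_add, hq1, hq1, hB]
      ring) (fun a x => by
      show Φ.q (ψ (a • x)) - Φ.q (ψ' (a • x)) = a ^ 2 * (Φ.q (ψ x) - Φ.q (ψ' x))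
      rw [map_smul, map_smul, hq2, hq2]
      ring) (fun x => by
      show Φ.q (ψ (m x)) - Φ.q (ψ' (m x)) = Φ.q (ψ x) - Φ.q (ψ' x)
      have h4 : Φ.q (ψ (m x)) = Φ.q (ψ x) := h.2 x
      have h5 : Φ.q (ψ' (m x)) = Φ.q (ψ' x) := h'.2 x
      rw [h4, h5]) x
    exact sub_eq_zero.1 h3

/-- an invariant embedded form is zero or nondegenerate -/
theorem nd_or_zero (hΦ : Ty Φ ε r) (h2 : 2 ≤ finrank F X) {m : X ≃ₗ[F] X} (hm : Irr m (⊤ : Submodule F X))
    (ψ : X →ₗ[F] V) (h : IsoP (pb Φ ψ) m) : pb Φ ψ = 0 ∨ (pull Φ ψ).Nd := by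
  let K : Submodule F X :=
    { carrier := {x | ∀ y, (pull Φ ψ).B x y = 0}
      add_mem' := fun {x x'} hx hx' y => by
        rw [(pull Φ ψ).add_left, hx y, hx' y, add_zero]
      zero_mem' := fun y => by
        have h3 := (pull Φ ψ).smul_left 0 (0 : X) y
        rw [zero_smul, zero_mul] at h3
        exact h3
      smul_mem' := fun a x hx y => by
        rw [(pull Φ ψ).smul_left, hx y, mul_zero] }
  rcases hm.min K le_top (fun x hx y => by
    have h3 : (pull Φ ψ).B (m x) (m (m.symm y)) = (pull Φ ψ).B x (m.symm y) := h.1 _ _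
    rw [m.apply_symm_apply] at h3
    rw [h3]
    exact hx _) with h3 | h3
  · right
    intro x hx
    have h4 : x ∈ K := hx
    rw [h3] at h4
    exact (Submodule.mem_bot F).1 h4
  · left
    have hB : ∀ x y, Φ.B (ψ x) (ψ y) = 0 := by
      intro x y
      have h4 : x ∈ K := by rw [h3]; exact Submodule.mem_top
      exact h4 y
    have hq : ∀ x, Φ.q (ψ x) = 0 := by
      intro x
      rcases hΦ.q with hq | ⟨hq1, hq2⟩
      · exact hq _
      · refine semi_zero h2 hm (fun x => Φ.q (ψ x)) (fun x y => ?_) (fun a x => ?_) (fun x => h.2 x) x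
        · show Φ.q (ψ (x + y)) = Φ.q (ψ x) + Φ.q (ψ y)
          rw [map_add, hq1, hB, add_zero]
        · show Φ.q (ψ (a • x)) = a ^ 2 * Φ.q (ψ x)
          rw [map_smul, hq2]
    refine Prod.ext ?_ ?_
    · funext x y
      exact hB x y
    · funext x
      exact hq x

/-- the counting -/
theorem card_emb_le {L : Type*} [Field L] [Finite L] [Algebra F L] (hL : finrank F L = finrank F X) (hΦ : Ty Φ ε r)
    (h2 : 2 ≤ finrank F X) {m : X ≃ₗ[F] X} (hm : Irr m (⊤ : Submodule F X)) (hP : ∃ P, P ≠ 0 ∧ Emb Φ P ∧ IsoP P m) :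
    ∃ w : ℕ, w ^ 2 = Nat.card F ^ finrank F X ∧ orderOf m ∣ w + 1 ∧
      Nat.card {P : (X → X → F) × (X → F) // Emb Φ P ∧ IsoP P m} ≤ w := by
  classical
  have h2L : 2 ≤ finrank F L := by rw [hL]; exact h2
  have hfdL : FiniteDimensional F L := Module.Finite.of_finite
  obtain ⟨e, u, hu⟩ := exists_frame hL hm
  have hgen := gen_of_frame hm e u hu
  have key : ∀ P : (X → X → F) × (X → F), Emb Φ P → IsoP P m → P ≠ 0 → ∃ (Q : ℕ) (κ : L), Q ^ 2 = Nat.card L ∧
      u ^ (Q + 1) = 1 ∧ κ ≠ 0 ∧ κ ^ Q = algebraMap F L ε * κ ∧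
      ∀ a b, P.1 (e.symm a) (e.symm b) = Algebra.trace F L (κ * (b ^ Q * a)) := by
    rintro _ ⟨ψ, -, rfl⟩ h1 h3
    have h4 := (nd_or_zero hΦ h2 hm ψ h1).resolve_left h3
    exact exists_kappa (Φ := pull Φ ψ) (ty_pull hΦ ψ h4) h2L h1 e hu hgen
  obtain ⟨P₀, hP0, hPe, hPi⟩ := hP
  obtain ⟨Q, κ₀, hQ, huQ, -⟩ := key P₀ hPe hPi hP0
  have hcardL : Nat.card L = Nat.card F ^ finrank F X := by
    rw [Module.natCard_eq_pow_finrank (K := F) (V := L), hL]
  have hL1 : 1 < Nat.card L := Finite.one_lt_card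
  have hQ2 : 2 ≤ Q := by
    by_contra hlt
    have h3 : Q ≤ 1 := by omega
    have h4 : Q ^ 2 ≤ 1 ^ 2 := Nat.pow_le_pow_left h3 2
    omega
  refine ⟨Q, by rw [hQ, hcardL], ?_, ?_⟩
  · apply orderOf_dvd_of_pow_eq_one
    have h3 : ∀ (n : ℕ) (x : X), e ((m ^ n) x) = u ^ n * e x := by
      intro n
      induction n with
      | zero => intro x; rw [pow_zero, pow_zero, one_mul]; rfl
      | succ n ih =>
        intro x
        rw [pow_succ, pow_succ]
        show e ((m ^ n) (m x)) = _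
        rw [ih, hu, mul_assoc]
    apply LinearEquiv.ext
    intro x
    apply e.injective
    rw [h3, huQ, one_mul]
    rfl
  · have key' : ∀ z : {P : (X → X → F) × (X → F) // Emb Φ P ∧ IsoP P m}, ∃ c : Option {κ : L // κ ^ (Q - 1) = algebraMap F L ε},
        (c = none ∧ z.1 = 0) ∨ (∃ κ : {κ : L // κ ^ (Q - 1) = algebraMap F L ε}, c = some κ ∧
          ∀ a b, z.1.1 (e.symm a) (e.symm b) = Algebra.trace F L (κ.1 * (b ^ Q * a))) := by
      rintro ⟨P, h1, h3⟩
      by_cases h4 : P = 0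
      · exact ⟨none, Or.inl ⟨rfl, h4⟩⟩
      · obtain ⟨Q', κ, hQ', -, h5, h6, h7⟩ := key P h1 h3 h4
        have hQQ : Q' = Q := Nat.pow_left_injective two_ne_zero (hQ'.trans hQ.symm)
        subst hQQ
        have h8 : κ ^ (Q' - 1) = algebraMap F L ε := by
          apply mul_right_cancel₀ h5
          rw [← pow_succ, Nat.sub_add_cancel (by omega), h6]
        exact ⟨some ⟨κ, h8⟩, Or.inr ⟨⟨κ, h8⟩, rfl, h7⟩⟩
    choose c hc using key'
    have hinj : Function.Injective c := by
      intro z z' hzz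
      rcases hc z with ⟨h3, h4⟩ | ⟨κ, h3, h4⟩
      · rcases hc z' with ⟨h5, h6⟩ | ⟨κ', h5, h6⟩
        · exact Subtype.ext (h4.trans h6.symm)
        · rw [h3, h5] at hzz
          exact absurd hzz (by simp)
      · rcases hc z' with ⟨h5, h6⟩ | ⟨κ', h5, h6⟩
        · rw [h3, h5] at hzz
          exact absurd hzz (by simp)
        · rw [h3, h5, Option.some.injEq] at hzz
          subst hzz
          obtain ⟨⟨P, P2⟩, ⟨ψ, hψ, hψ2⟩, h7⟩ := z
          obtain ⟨⟨P', P2'⟩, ⟨ψ', hψ', hψ2'⟩, h8⟩ := z'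
          have hB : ∀ x y, Φ.B (ψ x) (ψ y) = Φ.B (ψ' x) (ψ' y) := by
            intro x y
            have h9 := h4 (e x) (e y)
            have h10 := h6 (e x) (e y)
            rw [← h10, e.symm_apply_apply, e.symm_apply_apply] at h9
            have h11 := congrFun (congrFun (congrArg Prod.fst hψ2) x) y
            have h12 := congrFun (congrFun (congrArg Prod.fst hψ2') x) y
            exact (h11.trans h9).trans h12.symm
          apply Subtype.ext
          show (P, P2) = (P', P2')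
          rw [← hψ2] at h7 ⊢
          rw [← hψ2'] at h8 ⊢
          refine Prod.ext ?_ ?_
          · funext x y
            exact hB x y
          · funext x
            exact q_eq_of_B hΦ h2 hm ψ ψ' h7 h8 hB x
    have h3 := Nat.card_le_card_of_injective c hinj
    refine h3.trans ?_
    rw [Finite.card_option]
    have h4 := card_roots_le (L := L) (n := Q - 1) (by omega) (algebraMap F L ε)
    omega

end

/-- **Yb1.** -/
theorem yb1 : Yb1 := by
  intro F V X _ _ _ _ _ _ _ _ Φ hΦ h2 m hm hP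
  obtain ⟨ε, r, hT⟩ := ty_of (Φ := Φ) (by
    rcases hΦ with h | h | ⟨Q, hQ, rfl⟩
    · exact Or.inl h
    · exact Or.inr (Or.inl h)
    · exact Or.inr (Or.inr ⟨Q, hQ, rfl⟩))
  obtain ⟨p, hp⟩ := CharP.exists F
  have hpf : Fact p.Prime := ⟨CharP.char_is_prime F p⟩
  have hd0 : NeZero (finrank F X) := ⟨by omega⟩
  exact card_emb_le (L := FiniteField.Extension F p (finrank F X)) (FiniteField.finrank_extension F p _) hT h2 hm hP

end Cfsg.Agent.H232.Ux
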