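import Cfsg.Agent.H50.Ux.Stmts
import Cfsg.Agent.H127.RG.L13
import Cfsg.Agent.H343.RG.Res
import Cfsg.Agent.H440.Bs.Iso

/-!
# UX (S5716), UT2, Ye: the power `z` (helper232)

`ye : H50.Ux.Ye`.
-/

set_option autoImplicit false
set_option linter.unusedSectionVars false

namespace Cfsg.Agent.H232.Ux

open Module Cfsg.Agent.H847.Bs
open Cfsg.Agent.H440.Bs (perp mem_perp dec_perp inv_perp exists_irr)
open Cfsg.Agent.H50.Ux (Gn Ye)
open Cfsg.Agent.H141.Ux (Pp StE)
open Cfsg.Agent.H343.RG (rs rs_apply rs_pow irr_rs min_of_irr)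
open Cfsg.Agent.H127.RG (l24 natCast_ne_zero_of)

theorem ord_q {F : Type*} [Field F] [Finite F] {e r f : ℕ} (hf : Nat.card F = ringChar F ^ f)
    (h : orderOf ((ringChar F : ℕ) : ZMod r) = e * f) : orderOf ((Nat.card F : ℕ) : ZMod r) = e := by
  have h1 : 1 < Nat.card F := Finite.one_lt_card
  have hf0 : f ≠ 0 := by
    rintro rfl
    rw [pow_zero] at hf
    omega
  rw [hf, Nat.cast_pow, orderOf_pow_of_dvd hf0 (by rw [h]; exact dvd_mul_left _ _), h,
    Nat.mul_div_cancel _ (Nat.pos_of_ne_zero hf0)]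

section

variable {F X : Type} [Field F] [Finite F] [AddCommGroup X] [Module F X] [Module.Finite F X]

/-- the prime divisors `r` of the order of `y` with `ord_r(q) = e` -/
theorem not_dvd_orderOf {y : X ≃ₗ[F] X} {e r : ℕ} (he : 2 ≤ e) (hr : r.Prime)
    (hord : orderOf ((Nat.card F : ℕ) : ZMod r) = e) (no : ∀ B : Submodule F X, Irr y B → ¬ e ∣ finrank F B) :
    ¬ r ∣ orderOf y := by
  intro hd
  have hG := Cfsg.Agent.H127.RG.finite_gl F X
  have hn0 : orderOf y ≠ 0 := (orderOf_pos y).ne'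
  set w := y ^ (orderOf y / r) with hw
  have hwr : orderOf w = r := orderOf_pow_orderOf_div hn0 hd
  have hw1 : w ≠ 1 := by
    intro h
    rw [h, orderOf_one] at hwr
    exact hr.one_lt.ne hwr
  have hrF : (r : F) ≠ 0 := natCast_ne_zero_of he hr hord
  let T : X →ₗ[F] X := (w : X →ₗ[F] X) - LinearMap.id
  have hT : ∀ x, T x = w x - x := fun x => rfl
  have hIK : ∀ v ∈ LinearMap.range T, w v = v → v = 0 := by
    rintro _ ⟨x, rfl⟩ hv
    rw [hT] at hv ⊢
    have h1 : ∀ i : ℕ, (w ^ i) x = x + (i : F) • (w x - x) := by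
      intro i
      induction i with
      | zero => rw [pow_zero, Nat.cast_zero, zero_smul, add_zero]; rfl
      | succ i ih =>
        rw [pow_succ']
        show w ((w ^ i) x) = _
        rw [ih, map_add, map_smul, hv, Nat.cast_succ, add_smul, one_smul]
        abel
    have h2 := h1 r
    have h3 : w ^ r = 1 := by rw [← hwr]; exact pow_orderOf_eq_one w
    rw [h3] at h2
    have h4 : (r : F) • (w x - x) = 0 := left_eq_add.1 h2
    exact (smul_eq_zero.1 h4).resolve_left hrF
  have hcomm : ∀ x, w (y x) = y (w x) := by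
    intro x
    have h : w * y = y * w := ((Commute.refl y).pow_left _).eq
    exact LinearEquiv.congr_fun h x
  have hI : Inv y (LinearMap.range T) := by
    rintro _ ⟨x, rfl⟩
    exact ⟨y x, by rw [hT, hT, hcomm, map_sub]⟩
  have hI0 : LinearMap.range T ≠ ⊥ := by
    intro h
    apply hw1
    apply LinearEquiv.ext
    intro x
    have h1 : T x ∈ LinearMap.range T := ⟨x, rfl⟩
    rw [h, Submodule.mem_bot, hT, sub_eq_zero] at h1
    exact h1
  obtain ⟨B, hBI, hB⟩ := exists_irr hI hI0
  apply no B hB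
  have hz1 : rs y B hB.inv ^ (orderOf y / r) ≠ 1 := by
    intro h
    obtain ⟨b, hb, hb0⟩ := Submodule.exists_mem_ne_zero_of_ne_bot hB.ne_bot
    apply hb0
    apply hIK b (hBI hb)
    have h1 := rs_pow hB.inv (orderOf y / r) ⟨b, hb⟩
    rw [h] at h1
    exact h1.symm
  have hzr : orderOf (rs y B hB.inv ^ (orderOf y / r)) = r := by
    have h1 : (rs y B hB.inv ^ (orderOf y / r)) ^ r = 1 := by
      apply LinearEquiv.ext
      intro b
      apply Subtype.ext
      rw [← pow_mul, rs_pow, pow_mul]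
      have h3 : w ^ r = 1 := by rw [← hwr]; exact pow_orderOf_eq_one w
      show (w ^ r) (b : X) = _
      rw [h3]
      rfl
    have : Fact r.Prime := ⟨hr⟩
    exact orderOf_eq_prime h1 hz1
  exact (l24 F B e r (rs y B hB.inv) (rs y B hB.inv ^ (orderOf y / r)) he (irr_rs hB)
    (Subgroup.npow_mem_zpowers _ _) hr (by rw [hzr]) hord).1

/-- an irreducible subspace of an invariant subspace -/
theorem irr_map {y : X ≃ₗ[F] X} {P : Submodule F X} (hP : Inv y P) {B : Submodule F P} (hB : Irr (rs y P hP) B) :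
    Irr y (B.map P.subtype) where
  inv := by
    rintro _ ⟨b, hb, rfl⟩
    exact ⟨_, hB.inv b hb, rfl⟩
  ne_bot := by
    intro h
    apply hB.ne_bot
    exact Submodule.map_injective_of_injective P.injective_subtype (h.trans (Submodule.map_bot _).symm)
  min := by
    intro W hW hWi
    rcases hB.min (W.comap P.subtype) (by
      intro b hb
      obtain ⟨b', hb', h1⟩ := hW hb
      rwa [← P.injective_subtype h1]) (fun b hb => hWi _ hb) with h1 | h1
    · left
      rw [Submodule.eq_bot_iff]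
      intro v hv
      obtain ⟨b, hb, rfl⟩ := hW hv
      have h2 : b ∈ W.comap P.subtype := hv
      rw [h1, Submodule.mem_bot] at h2
      rw [h2, map_zero]
    · right
      refine le_antisymm hW ?_
      rintro _ ⟨b, hb, rfl⟩
      have h2 : b ∈ W.comap P.subtype := by rw [h1]; exact hb
      exact h2

end

/-- **Ye.** -/
theorem ye : Ye := by
  intro F V _ _ _ _ _ Φ e hN he y hy E hG
  have hGf := Cfsg.Agent.H127.RG.finite_gl F V
  have hGE := Cfsg.Agent.H127.RG.finite_gl F E
  have hGP := Cfsg.Agent.H127.RG.finite_gl F (perp Φ E)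
  have hdec := dec_perp Φ hN hG.nd
  have hPi : Inv y (perp Φ E) := inv_perp hy hG.irr.inv
  obtain ⟨k, hk, hkE⟩ := hG.pp
  obtain ⟨f, hf⟩ : ∃ f, Nat.card F = ringChar F ^ f := by
    have := Fintype.ofFinite F
    obtain ⟨m, -, hm⟩ := FiniteField.card F (ringChar F)
    exact ⟨m, by rw [Nat.card_eq_fintype_card, hm]⟩
  set yE := rs y E hG.irr.inv with hyE
  set yP := rs y (perp Φ E) hPi with hyP
  have hnoP : ∀ B : Submodule F (perp Φ E), Irr yP B → ¬ e ∣ finrank F B := by
    intro B hB hd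
    refine hG.no (B.map (perp Φ E).subtype) (Submodule.map_subtype_le _ _) (irr_map hPi hB) ?_
    rwa [Submodule.finrank_map_subtype_eq]
  have hcop : Nat.Coprime k (orderOf yP) := by
    apply Nat.coprime_of_dvd
    intro r hr hrk hrP
    exact not_dvd_orderOf he hr (ord_q hf (hk.2.2 r hr hrk f hf)) hnoP hrP
  have hka : k ∣ orderOf yE := by
    apply hkE
    intro a ha
    have h1 := rs_pow hG.irr.inv (orderOf yE) ⟨a, ha⟩
    rw [← hyE, pow_orderOf_eq_one] at h1
    exact h1.symm
  obtain ⟨c, hc⟩ := hka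
  have hapos : 0 < orderOf yE := orderOf_pos yE
  have hcpos : 0 < c := by
    rcases Nat.eq_zero_or_pos c with h | h
    · rw [h, mul_zero] at hc; omega
    · exact h
  have hkpos : 0 < k := by
    rcases Nat.eq_zero_or_pos k with h | h
    · rw [h, zero_mul] at hc; omega
    · exact h
  set t := orderOf yP * c with ht
  have hzP : ∀ v ∈ perp Φ E, (y ^ t) v = v := by
    intro v hv
    have h1 := rs_pow hPi t ⟨v, hv⟩
    rw [← hyP, ht, pow_mul, pow_orderOf_eq_one, one_pow] at h1
    exact h1.symm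
  have hzE : orderOf (yE ^ t) = k := by
    rw [orderOf_pow, hc, ht, Nat.gcd_mul_right, hcop.gcd_eq_one, one_mul, Nat.mul_div_cancel _ hcpos]
  have hoz : orderOf (y ^ t) = k := by
    rw [← hzE, orderOf_eq_orderOf_iff]
    intro j
    rw [← pow_mul, ← pow_mul]
    constructor
    · intro h
      apply LinearEquiv.ext
      intro a
      apply Subtype.ext
      rw [hyE, rs_pow, h]
      rfl
    · intro h
      apply LinearEquiv.ext
      intro v
      obtain ⟨a, ha, b, hb, rfl⟩ := Submodule.mem_sup.1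
        (show v ∈ E ⊔ perp Φ E by rw [hdec.compl.sup_eq_top]; exact Submodule.mem_top)
      have h1 := rs_pow hG.irr.inv (t * j) ⟨a, ha⟩
      rw [← hyE, h] at h1
      have h2 : (y ^ (t * j)) a = a := h1.symm
      have h3 : ∀ i : ℕ, ((y ^ t) ^ i) b = b := by
        intro i
        induction i with
        | zero => rfl
        | succ i ih =>
          rw [pow_succ]
          show ((y ^ t) ^ i) ((y ^ t) b) = b
          rw [hzP b hb, ih]
      have h4 := h3 j
      rw [← pow_mul] at h4
      rw [map_add, h2, h4]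
      rfl
  have hk1 : k ≠ 1 := by
    have := hk.1
    omega
  obtain ⟨r, hr, hrk⟩ := Nat.exists_prime_and_dvd hk1
  obtain ⟨-, h2, h3⟩ := l24 F E e r yE (yE ^ t) he (irr_rs hG.irr)
    (Subgroup.npow_mem_zpowers _ _) hr (by rw [hzE]; exact hrk) (ord_q hf (hk.2.2 r hr hrk f hf))
  refine ⟨y ^ t, Subgroup.npow_mem_zpowers _ _, hG.nd, hG.dim, hG.irr.inv, hzP,
    min_of_irr (rs_pow hG.irr.inv t) (h2 hG.dim), fun v hv hv2 => ?_, by rw [hoz]; exact hk⟩
  exact congrArg Subtype.val (h3 ⟨v, hv⟩ (Subtype.ext ((rs_pow hG.irr.inv t _).trans hv2)))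

end Cfsg.Agent.H232.Ux
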